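import Mathlib
import Groth.Agent.Lib.Lead.FlatLoc13
import Groth.Agent.Lib.Helper7.MaxPt
import Groth.Agent.Lib.Helper7.QuasiFlat.Closure
import Groth.Agent.Lib.Helper7.ProConsLib6
import Groth.Agent.Lib.Helper7.ProConsLib4

/-! helper7: flatness over a dense quasi-compact open of a reduced base with compact set of
maximal points -/

set_option linter.style.haveILetI false
set_option linter.unusedVariables false
set_option linter.unusedSectionVars false
set_option autoImplicit false
set_option backward.isDefEq.respectTransparency.types false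
set_option synthInstance.maxHeartbeats 400000
set_option maxHeartbeats 800000

universe u

/-! helper7: flatness over a dense quasi-compact open of a reduced base with compact set of maximal points -/

open AlgebraicGeometry CategoryTheory TopologicalSpace

namespace Groth.Agent.Helper7.DenseFlat

/-- every module over a ring which is a field is flat -/
theorem flat_of_isField (R M : Type*) [CommRing R] (h : IsField R) [AddCommGroup M] [Module R M] :
    Module.Flat R M := by
  letI := h.toField
  infer_instance

/-- every ring map out of a field is flat -/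
theorem ringHom_flat_of_isField {R S : Type*} [CommRing R] [CommRing S] (h : IsField R)
    (φ : R →+* S) : φ.Flat := by
  letI := φ.toAlgebra
  exact flat_of_isField R S h

/-- the local ring of a reduced scheme at a maximal point is a field -/
theorem isField_stalk_of_maximal (Y : Scheme.{u}) [IsReduced Y] (y : Y)
    (hy : ∀ y' : Y, y' ⤳ y → y' = y) : IsField (Y.presheaf.stalk y) := by
  rw [IsLocalRing.isField_iff_maximalIdeal_eq]
  have h1 : ∀ q, (Y.fromSpecStalk y) q = y := fun q => hy _ (by
    have : (Y.fromSpecStalk y) q ∈ Set.range (Y.fromSpecStalk y) := ⟨q, rfl⟩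
    rw [Scheme.range_fromSpecStalk] at this
    exact this)
  have hinj : Function.Injective (Y.fromSpecStalk y) :=
    (Y.fromSpecStalk y).isEmbedding.injective
  have hsub : ∀ p q : PrimeSpectrum (Y.presheaf.stalk y), p = q := by
    intro p q
    apply hinj
    rw [h1, h1]
  have hnil : IsLocalRing.maximalIdeal (Y.presheaf.stalk y) = nilradical _ := by
    rw [nilradical_eq_sInf]
    apply le_antisymm
    · apply le_sInf
      intro J hJ
      have hJ' : J.IsPrime := hJ
      have := hsub ⟨J, hJ'⟩ ⟨IsLocalRing.maximalIdeal _, (IsLocalRing.maximalIdeal.isMaximal _).isPrime⟩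
      have h2 : J = IsLocalRing.maximalIdeal _ := congrArg PrimeSpectrum.asIdeal this
      rw [h2]
    · exact sInf_le (IsLocalRing.maximalIdeal.isMaximal _).isPrime
  rw [hnil, nilradical_eq_zero]
  rfl

/-- over a reduced quasi-compact base whose set of maximal points is quasi-compact, a quasi-compact
morphism locally of finite presentation is flat over a dense quasi-compact open -/
theorem main {X Y : Scheme.{u}} [IsReduced Y] [CompactSpace Y]
    (hgen : IsCompact {y : Y | ∀ y' : Y, y' ⤳ y → y' = y})
    (f : X ⟶ Y) [LocallyOfFinitePresentation f] [QuasiCompact f] :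
    ∃ U : Y.Opens, Dense (U : Set Y) ∧ IsCompact (U : Set Y) ∧ Flat (f ∣_ U) := by
  classical
  have hW : IsOpen {x : X | (f.stalkMap x).hom.Flat} :=
    Groth.Agent.Lead.FlatLoc.isOpen_flatLocus_of_locallyOfFinitePresentation f
  have hMW : ∀ x : X, (∀ y' : Y, y' ⤳ f x → y' = f x) → (f.stalkMap x).hom.Flat := by
    intro x hx
    exact ringHom_flat_of_isField (isField_stalk_of_maximal Y (f x) hx) _
  have hpro : ProCons.IsProConstructible (f '' {x : X | (f.stalkMap x).hom.Flat}ᶜ) :=
    Groth.Agent.Helper7.ProConsLib.isProConstructible_image f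
      (Groth.Agent.Helper7.QuasiFlat.isProConstructible_of_isClosed X hW.isClosed_compl)
  have hdisj : ∀ y : Y, (∀ y' : Y, y' ⤳ y → y' = y) →
      y ∈ (closure (f '' {x : X | (f.stalkMap x).hom.Flat}ᶜ))ᶜ := by
    intro y hy hmem
    obtain ⟨z, ⟨x, hxZ, rfl⟩, hzy⟩ :=
      Groth.Agent.Helper7.ProConsLib.exists_specializes_of_mem_closure_of_isProConstructible
        Y hpro hmem
    have hfx : f x = y := hy _ hzy
    apply hxZ
    apply hMW x
    rw [hfx]
    exact hy
  have hVo : IsOpen (closure (f '' {x : X | (f.stalkMap x).hom.Flat}ᶜ))ᶜ :=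
    isClosed_closure.isOpen_compl
  -- choose affine opens
  have hch : ∀ y : Y, (∀ y' : Y, y' ⤳ y → y' = y) → ∃ A : Y.Opens, IsAffineOpen A ∧ y ∈ A ∧
      (A : Set Y) ⊆ (closure (f '' {x : X | (f.stalkMap x).hom.Flat}ᶜ))ᶜ := by
    intro y hy
    obtain ⟨_, ⟨A, hA, rfl⟩, hyA, hAV⟩ :=
      Y.isBasis_affineOpens.exists_subset_of_mem_open (hdisj y hy) hVo
    exact ⟨A, hA, hyA, hAV⟩
  choose! A hA1 hA2 hA3 using hch
  obtain ⟨t, ht⟩ := hgen.elim_nhds_subcover' (fun y hy => (A y : Set Y))
    (fun y hy => (A y).2.mem_nhds (hA2 y hy))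
  refine ⟨⟨⋃ y ∈ t, (A (y : Y) : Set Y), isOpen_biUnion fun y _ => (A (y : Y)).2⟩, ?_, ?_, ?_⟩
  · rw [dense_iff_inter_open]
    rintro O hO ⟨y, hyO⟩
    obtain ⟨y', hy'y, hy'max⟩ := Groth.Agent.Helper7.MaxPt.exists_maximal_generization y
    exact ⟨y', hy'y.mem_open hO hyO, ht hy'max⟩
  · exact t.isCompact_biUnion fun y _ => (hA1 y.1 y.2).isCompact
  · rw [Flat.iff_flat_stalkMap]
    intro x
    refine (RingHom.Flat.respectsIso.arrow_mk_iso_iff (morphismRestrictStalkMap f _ x)).mpr ?_
    by_contra hx
    have hx2 : f x.1 ∈ (⋃ y ∈ t, (A (y : Y) : Set Y)) := x.2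
    simp only [Set.mem_iUnion] at hx2
    obtain ⟨y, hyt, hy⟩ := hx2
    exact hA3 y.1 y.2 hy (subset_closure ⟨x.1, hx, rfl⟩)

end Groth.Agent.Helper7.DenseFlat
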